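import Groth.Agent.DSites.FPHom.Colim
import Groth.Prelude.Def_CohCx

/-!
# Homomorphisms out of finitely presented modules commute with filtered colimits on quasi-compact quasi-separated topoi
-/

universe u

set_option autoImplicit false
set_option backward.isDefEq.respectTransparency false
set_option backward.isDefEq.respectTransparency.types false
set_option linter.unusedSectionVars false
set_option linter.unusedVariables false

open CategoryTheory CategoryTheory.Limits Opposite ToposFin Groth.Agent.ToposFinLib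
open Groth.Agent.FMod90.Site (Scal app mapS mapS_comp map_app map_smul_sect)

namespace Groth.Agent.DSites.FPHom

variable {C : Type u} [SmallCategory C] {J : GrothendieckTopology C} {O : Sheaf J CommRingCat.{u}}
  {F N P : ModSite.Mod O}

theorem ofHom_ext {φ ψ : F ⟶ N} (h : ∀ V, LHom.ofHom φ V = LHom.ofHom ψ V) : φ = ψ := by
  apply SheafOfModules.hom_ext
  apply PresheafOfModules.hom_ext
  intro V
  ext x
  exact congrArg (fun γ : LHom F N V.unop => γ.ap (𝟙 V.unop) x) (h V.unop)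

/-- The sheaf of local lifts of a morphism along a morphism. -/
noncomputable def liftSh (q : N ⟶ P) (φ : F ⟶ P) : Sh J :=
  ⟨{ obj := fun V => { α : LHom F N V.unop // α.post q = LHom.ofHom φ V.unop }
     map := fun f => TypeCat.ofHom fun α => ⟨α.1.res f.unop, congrArg (LHom.res f.unop) α.2⟩
     map_id := fun V => by
       ext α W g x
       show α.1.ap (g ≫ 𝟙 _) x = α.1.ap g x
       rw [Category.comp_id]
     map_comp := fun f f' => by
       ext α W g x
       show α.1.ap (g ≫ f'.unop ≫ f.unop) x = α.1.ap ((g ≫ f'.unop) ≫ f.unop) x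
       rw [Category.assoc] },
   (isSheaf_iff_isSheaf_of_type J _).2 fun V S hS x hx => by
    obtain ⟨β, hβ⟩ := LHom.glue hS (fun W f hf => (x f hf).1) fun W W' k f hf =>
      congrArg Subtype.val (((Presieve.compatible_iff_sieveCompatible x).1 hx) f k hf).symm
    refine ⟨⟨β, LHom.hom_ext_cover hS fun W f hf => ?_⟩, fun W f hf => Subtype.ext (hβ f hf),
      fun γ hγ => Subtype.ext (LHom.hom_ext_cover hS fun W f hf =>
        (congrArg Subtype.val (hγ f hf)).trans (hβ f hf).symm)⟩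
    rw [← LHom.post_res, hβ f hf, (x f hf).2]
    rfl⟩

/-- The subterminal sheaf where two morphisms agree. -/
noncomputable def eqSh (φ ψ : F ⟶ N) : Sh J :=
  ⟨{ obj := fun V => { _a : PUnit.{u + 1} // LHom.ofHom φ V.unop = LHom.ofHom ψ V.unop }
     map := fun f => TypeCat.ofHom fun a => ⟨a.1, congrArg (LHom.res f.unop) a.2⟩
     map_id := fun V => by ext a
     map_comp := fun f f' => by ext a },
   (isSheaf_iff_isSheaf_of_type J _).2 fun V S hS x hx => by
    exact ⟨⟨PUnit.unit, LHom.hom_ext_cover hS fun W f hf => (x f hf).2⟩, fun W f hf => rfl, fun γ hγ => rfl⟩⟩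

variable {Λ : Type u} [SmallCategory Λ] {D : Λ ⥤ ModSite.Mod O} {c : Cocone D}

/-- Transition maps of the sheaves of local lifts. -/
noncomputable def liftShMap (φ : F ⟶ c.pt) {i j : Λ} (w : i ⟶ j) :
    liftSh (c.ι.app i) φ ⟶ liftSh (c.ι.app j) φ :=
  ⟨{ app := fun V => TypeCat.ofHom fun α => ⟨α.1.post (D.map w), (post_map_ι w α.1).trans α.2⟩
     naturality := fun V V' f => by ext α; rfl }⟩

theorem liftShMap_comp (φ : F ⟶ c.pt) {i j k : Λ} (w : i ⟶ j) (v : j ⟶ k) :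
    liftShMap φ (w ≫ v) = liftShMap φ w ≫ liftShMap φ v := by
  apply CategoryTheory.Sheaf.hom_ext
  ext V α
  exact Subtype.ext (post_map_comp w v α.1)

theorem subsingleton_terminal (V : Cᵒᵖ) : Subsingleton ((⊤_ (Sh J)).obj.obj V) :=
  have hT : IsTerminal ((⊤_ (Sh J)).obj) := IsTerminal.isTerminalObj (sheafToPresheaf J (Type u)) _ terminalIsTerminal
  have u : Unique ((⊤_ (Sh J)).obj.obj V) :=
    Types.isTerminalEquivUnique _ (IsTerminal.isTerminalObj ((evaluation Cᵒᵖ (Type u)).obj V) _ hT)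
  @Unique.instSubsingleton _ u

theorem nonempty_terminal (V : Cᵒᵖ) : Nonempty ((⊤_ (Sh J)).obj.obj V) :=
  have hT : IsTerminal ((⊤_ (Sh J)).obj) := IsTerminal.isTerminalObj (sheafToPresheaf J (Type u)) _ terminalIsTerminal
  ⟨(Types.isTerminalEquivUnique _ (IsTerminal.isTerminalObj ((evaluation Cᵒᵖ (Type u)).obj V) _ hT)).default⟩

theorem isQC_of_isQcObject {K : Sh J} (hK : CohCx.IsQcObject K) : IsQC K := by
  classical
  intro ι L π hπ
  obtain ⟨t, ht⟩ := hK ι L π fun V y =>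
    ⟨_, epi_desc_iff.1 hπ y, fun W g ⟨i, z, hz⟩ => ⟨i, z, hz⟩⟩
  refine ⟨t, epi_desc_iff.2 fun V y => ?_⟩
  obtain ⟨T, hT, h⟩ := ht V y
  refine J.superset_covering (fun W g hg => ?_) hT
  obtain ⟨i, z, hz⟩ := h W g hg
  exact ⟨i, z, hz⟩

variable [IsFiltered Λ] (S : Set (Sheaf J (Type u)))
  (hSa : ∀ G : Sheaf J (Type u), Epi (terminal.from G) → ∃ K ∈ S, Epi (terminal.from K) ∧ Nonempty (K ⟶ G))
  (hSb : ∀ K ∈ S, CohCx.IsQcObject (K ⨯ K))

include hSa hSb in
theorem isQC_terminal : IsQC (⊤_ (Sh J)) := by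
  have h : terminal.from (⊤_ (Sh J)) = 𝟙 _ := Subsingleton.elim _ _
  obtain ⟨K, hK, hp, -⟩ := hSa (⊤_ (Sh J)) (by rw [h]; infer_instance)
  have : IsSplitEpi (prod.fst : K ⨯ K ⟶ K) := IsSplitEpi.mk' ⟨prod.lift (𝟙 K) (𝟙 K), prod.lift_fst _ _⟩
  exact isQC_of_epi (terminal.from K) (isQC_of_epi (prod.fst : K ⨯ K ⟶ K) (isQC_of_isQcObject (hSb K hK)))

variable (hc : IsColimit c) [F.IsFinitePresentation]

include hSa hSb hc in
theorem exists_map_eq {i : Λ} (ψ χ : F ⟶ D.obj i) (h : ψ ≫ c.ι.app i = χ ≫ c.ι.app i) :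
    ∃ (j : Λ) (w : i ⟶ j), ψ ≫ D.map w = χ ≫ D.map w := by
  classical
  let E : (Σ j : Λ, i ⟶ j) → Sh J := fun p => eqSh (ψ ≫ D.map p.2) (χ ≫ D.map p.2)
  have hπ : Cov (fun p => terminal.from (E p)) := fun V y => by
    obtain ⟨T, hT, hT'⟩ := locally_eq hc (LHom.ofHom ψ V) (LHom.ofHom χ V)
      (congrArg (fun q => LHom.ofHom q V) h)
    refine J.superset_covering (fun W g hg => ?_) hT
    obtain ⟨j, w, hw⟩ := hT' g hg
    exact ⟨⟨j, w⟩, ⟨PUnit.unit, hw⟩, (subsingleton_terminal _).elim _ _⟩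
  obtain ⟨s, hs⟩ := isQC_iff.1 (isQC_terminal S hSa hSb) _ _ _ hπ
  obtain ⟨k, hO, T, hT⟩ := IsFiltered.wideSpan (fun p : s => p.1.2)
  refine ⟨k, hO, ofHom_ext fun V => LHom.hom_ext_cover (hs (nonempty_terminal (op V)).some) fun W g hg => ?_⟩
  obtain ⟨p, z, -⟩ := hg
  rw [← hT p]
  have e := congrArg (LHom.post (D.map (T p))) z.2
  refine LHom.ext' fun U u x => ?_
  show app (D.map (p.1.2 ≫ T p)) U (app ψ U x) = app (D.map (p.1.2 ≫ T p)) U (app χ U x)
  rw [app_map_comp, app_map_comp]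
  exact congrArg (fun γ : LHom F (D.obj k) W => γ.ap u x) e

include hSa hSb hc in
theorem exists_lift (φ : F ⟶ c.pt) : ∃ (j : Λ) (ψ : F ⟶ D.obj j), ψ ≫ c.ι.app j = φ := by
  classical
  let T : Λ → Sh J := fun i => liftSh (c.ι.app i) φ
  have hπ : Cov (fun i => terminal.from (T i)) := fun V y => by
    obtain ⟨R, hR, hR'⟩ := locally_lift hc φ V
    refine J.superset_covering (fun W g hg => ?_) hR
    obtain ⟨j, α, hα⟩ := hR' g hg
    exact ⟨j, ⟨α, hα⟩, (subsingleton_terminal _).elim _ _⟩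
  obtain ⟨s, hs⟩ := isQC_iff.1 (isQC_terminal S hSa hSb) _ _ _ hπ
  have hepi : Epi (terminal.from (∐ fun i : s => T i.1)) := by
    have e : Sigma.desc (fun i : s => terminal.from (T i.1)) = terminal.from _ := Subsingleton.elim _ _
    rw [← e]
    exact epi_desc_iff.2 hs
  obtain ⟨K, hK, hp, ⟨k₀⟩⟩ := hSa _ hepi
  obtain ⟨i, hi⟩ := IsFiltered.sup_objs_exists (Finset.univ.image fun a : s => a.1)
  let κ : K ⟶ T i := k₀ ≫ Sigma.desc fun a : s =>
    liftShMap φ (hi (Finset.mem_image_of_mem _ (Finset.mem_univ a))).some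
  let E : (Σ j : Λ, i ⟶ j) → Sh J := fun p =>
    equalizer ((prod.fst ≫ κ : K ⨯ K ⟶ _) ≫ liftShMap φ p.2) ((prod.snd ≫ κ : K ⨯ K ⟶ _) ≫ liftShMap φ p.2)
  have hπ' : Cov (fun p => (equalizer.ι _ _ : E p ⟶ K ⨯ K)) := fun V y => by
    obtain ⟨R, hR, hR'⟩ := locally_eq hc (i := i) ((prod.fst ≫ κ : K ⨯ K ⟶ _).hom.app (op V) y).1
      ((prod.snd ≫ κ : K ⨯ K ⟶ _).hom.app (op V) y).1
      (((prod.fst ≫ κ : K ⨯ K ⟶ _).hom.app (op V) y).2.trans ((prod.snd ≫ κ : K ⨯ K ⟶ _).hom.app (op V) y).2.symm)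
    refine J.superset_covering (fun W g hg => ?_) hR
    obtain ⟨j, w, hw⟩ := hR' g hg
    have hkey : epsDesc ((K ⨯ K).obj.map g.op y) ≫ (prod.fst ≫ κ) ≫ liftShMap φ w =
        epsDesc ((K ⨯ K).obj.map g.op y) ≫ (prod.snd ≫ κ) ≫ liftShMap φ w := by
      refine eps_hom_ext ?_
      show (liftShMap φ w).hom.app _ ((prod.fst ≫ κ : K ⨯ K ⟶ _).hom.app _ ((epsDesc ((K ⨯ K).obj.map g.op y)).hom.app _ _)) =
        (liftShMap φ w).hom.app _ ((prod.snd ≫ κ : K ⨯ K ⟶ _).hom.app _ ((epsDesc ((K ⨯ K).obj.map g.op y)).hom.app _ _))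
      rw [epsDesc_gen, NatTrans.naturality_apply (prod.fst ≫ κ : K ⨯ K ⟶ _).hom,
        NatTrans.naturality_apply (prod.snd ≫ κ : K ⨯ K ⟶ _).hom]
      exact Subtype.ext hw
    refine ⟨⟨j, w⟩, (equalizer.lift _ hkey).hom.app (op W) (epsGen J W), ?_⟩
    exact (congrArg (fun q : eps J W ⟶ K ⨯ K => q.hom.app (op W) (epsGen J W)) (equalizer.lift_ι _ hkey)).trans
      (epsDesc_gen _)
  obtain ⟨s', hs'⟩ := isQC_iff.1 (isQC_of_isQcObject (hSb K hK)) _ _ _ hπ'
  obtain ⟨l, hO, R, hR⟩ := IsFiltered.wideSpan (fun p : s' => p.1.2)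
  have hκ : (prod.fst ≫ κ : K ⨯ K ⟶ _) ≫ liftShMap φ hO = (prod.snd ≫ κ : K ⨯ K ⟶ _) ≫ liftShMap φ hO :=
    hs'.hom_ext fun p => by
      rw [← hR p, liftShMap_comp]
      simpa only [Category.assoc] using
        congrArg (· ≫ liftShMap φ (R p)) (equalizer.condition
          ((prod.fst ≫ κ : K ⨯ K ⟶ _) ≫ liftShMap φ p.1.2) ((prod.snd ≫ κ : K ⨯ K ⟶ _) ≫ liftShMap φ p.1.2))
  obtain ⟨h, -⟩ := (cov_of_epi.{u} (terminal.from K)).exists_desc (fun _ => κ ≫ liftShMap φ hO) fun a b => by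
    have e := congrArg (prod.lift (pullback.fst (terminal.from K) (terminal.from K))
      (pullback.snd (terminal.from K) (terminal.from K)) ≫ ·) hκ
    simpa only [Category.assoc, prod.lift_fst_assoc, prod.lift_snd_assoc] using e
  let pt : ∀ V : C, (⊤_ (Sh J)).obj.obj (op V) := fun V => (nonempty_terminal (op V)).some
  obtain ⟨ψ, hψ⟩ := LHom.exists_hom (fun V => (h.hom.app (op V) (pt V)).1) fun V V' f => by
    have e := NatTrans.naturality_apply h.hom f.op (pt V)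
    rw [(subsingleton_terminal (op V')).elim ((⊤_ (Sh J)).obj.map f.op (pt V)) (pt V')] at e
    exact (congrArg Subtype.val e).symm
  exact ⟨l, ψ, ofHom_ext fun V => ((congrArg (LHom.post (c.ι.app l)) (hψ V)).trans (h.hom.app (op V) (pt V)).2)⟩

include hSa hSb in
theorem preservesColimit_coyoneda : PreservesColimit D (coyoneda.obj (op F)) := by
  refine ⟨fun {c} hc => ⟨Types.FilteredColimit.isColimitOf' _ _ (fun x => ?_) fun i x y e => ?_⟩⟩
  · obtain ⟨j, ψ, hψ⟩ := exists_lift S hSa hSb hc x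
    exact ⟨j, ψ, hψ.symm⟩
  · exact exists_map_eq S hSa hSb hc x y e

end Groth.Agent.DSites.FPHom
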