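import Groth.Agent.DSites.FPHom.Pres
import Groth.Agent.DSites.CollColim.Stages
import Groth.Agent.ToposFinLib.Colim
import Groth.Agent.SiteBase.ModColim

/-!
# Maps out of finitely presented modules into filtered colimits
-/

universe u

set_option autoImplicit false
set_option backward.isDefEq.respectTransparency false
set_option backward.isDefEq.respectTransparency.types false
set_option linter.unusedSectionVars false
set_option linter.unusedVariables false

open CategoryTheory CategoryTheory.Limits Opposite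
open Groth.Agent.FMod90.Site (Scal app mapS mapS_comp map_app map_smul_sect)

namespace Groth.Agent.DSites.FPHom

variable {C : Type u} [SmallCategory C] {J : GrothendieckTopology C} {O : Sheaf J CommRingCat.{u}}
  {F N P : ModSite.Mod O} {Λ : Type u} [SmallCategory Λ] [IsFiltered Λ] {D : Λ ⥤ ModSite.Mod O}
  {c : Cocone D}

theorem finset_inf_mem {X : C} {κ : Type*} (s : Finset κ) (T : κ → Sieve X) (h : ∀ k ∈ s, T k ∈ J X) :
    s.inf T ∈ J X :=
  Finset.inf_induction (p := fun S => S ∈ J X) (J.top_mem X) (fun _ h₁ _ h₂ => J.intersection_covering h₁ h₂) h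

theorem finset_inf_arrows {X W : C} {κ : Type*} {s : Finset κ} {T : κ → Sieve X} {f : W ⟶ X}
    (hf : (s.inf T).arrows f) {k : κ} (hk : k ∈ s) : (T k).arrows f :=
  (show s.inf T ≤ T k from Finset.inf_le hk) _ hf

omit [IsFiltered Λ] in
theorem app_map_comp {i j l : Λ} (w : i ⟶ j) (v : j ⟶ l) (W : C) (x : ModSite.sect (D.obj i) W) :
    app (D.map (w ≫ v)) W x = app (D.map v) W (app (D.map w) W x) := by
  rw [D.map_comp]
  rfl

omit [IsFiltered Λ] in
theorem post_map_comp {i j l : Λ} (w : i ⟶ j) (v : j ⟶ l) {V : C} (α : LHom F (D.obj i) V) :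
    α.post (D.map (w ≫ v)) = (α.post (D.map w)).post (D.map v) :=
  LHom.ext' fun W g x => app_map_comp w v W (α.ap g x)

omit [IsFiltered Λ] in
theorem post_map_ι {i j : Λ} (w : i ⟶ j) {V : C} (α : LHom F (D.obj i) V) :
    (α.post (D.map w)).post (c.ι.app j) = α.post (c.ι.app i) :=
  LHom.ext' fun W g x => congrArg (fun φ : D.obj i ⟶ c.pt => app φ W (α.ap g x)) (c.w w)

variable (hc : IsColimit c)

include hc in
/-- A section vanishing in the colimit vanishes locally at a later stage. -/
theorem locally_zero {i : Λ} {V : C} (a : ModSite.sect (D.obj i) V) (ha : app (c.ι.app i) V a = 0) :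
    ∃ T ∈ J V, ∀ ⦃W : C⦄ (g : W ⟶ V), T.arrows g →
      ∃ (j : Λ) (w : i ⟶ j), app (D.map w) W (mapS (D.obj i) g a) = 0 :=
  have := SiteBase.preservesColimitsOfSize_toSheaf (J := J) (ModSite.ringSh O)
  CollColim.locally_zero (isColimitOfPreserves (SheafOfModules.toSheaf.{u} (ModSite.ringSh O)) hc) a ha

include hc in
/-- Sections of the colimit come locally from a stage. -/
theorem locally_rep {V : C} (y : ModSite.sect c.pt V) :
    ∃ T ∈ J V, ∀ ⦃W : C⦄ (g : W ⟶ V), T.arrows g →
      ∃ (i : Λ) (a : ModSite.sect (D.obj i) W), app (c.ι.app i) W a = mapS c.pt g y :=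
  have := SiteBase.preservesColimitsOfSize_toSheaf (J := J) (ModSite.ringSh O)
  CollColim.locally_rep (isColimitOfPreserves (SheafOfModules.toSheaf.{u} (ModSite.ringSh O)) hc) y

variable [F.IsFinitePresentation]

include hc in
/-- Local homomorphisms equal in the colimit are locally equal at a later stage. -/
theorem locally_eq {i : Λ} {V : C} (α β : LHom F (D.obj i) V) (h : α.post (c.ι.app i) = β.post (c.ι.app i)) :
    ∃ T ∈ J V, ∀ ⦃W : C⦄ (g : W ⟶ V), T.arrows g →
      ∃ (j : Λ) (w : i ⟶ j), (α.res g).post (D.map w) = (β.res g).post (D.map w) := by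
  let Q : Sieve V :=
    { arrows := fun W g => ∃ (j : Λ) (w : i ⟶ j), (α.res g).post (D.map w) = (β.res g).post (D.map w)
      downward_closed := fun {W W'} g ⟨j, w, e⟩ k => ⟨j, w, by
        have e' := congrArg (LHom.res k) e
        simpa only [LHom.res, LHom.post, Category.assoc] using! e'⟩ }
  refine ⟨Q, ?_, fun W g hg => hg⟩
  obtain ⟨S, hS, hp⟩ := exists_cover_isPres F V
  refine J.transitive hS Q fun W g hg => ?_
  obtain ⟨n, m, s, r, hs⟩ := hp g hg
  classical
  let d : Fin n → ModSite.sect (D.obj i) W := fun k => α.ap g (s k) - β.ap g (s k)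
  have hd : ∀ k, app (c.ι.app i) W (d k) = 0 := fun k => by
    have e := congrArg (fun γ : LHom F c.pt V => γ.ap g (s k)) h
    exact (map_sub _ _ _).trans (sub_eq_zero.2 e)
  choose T hT hTz using fun k => locally_zero hc (d k) (hd k)
  refine J.superset_covering ?_ (finset_inf_mem Finset.univ T fun k _ => hT k)
  intro W' f hf
  obtain ⟨j, w, hw⟩ := CollColim.exists_common (i := i)
    (fun k j (w : i ⟶ j) => app (D.map w) W' (mapS (D.obj i) f (d k)) = 0)
    (fun k j l w v e => by rw [app_map_comp, e, map_zero])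
    fun k => hTz k f (finset_inf_arrows hf (Finset.mem_univ k))
  refine ⟨j, w, (hs.restrict f).gen.hom_ext fun k => ?_⟩
  show app (D.map w) W' (α.ap (𝟙 W' ≫ f ≫ g) (mapS F f (s k))) =
    app (D.map w) W' (β.ap (𝟙 W' ≫ f ≫ g) (mapS F f (s k)))
  rw [Category.id_comp, ← α.nat, ← β.nat, ← sub_eq_zero, ← map_sub, ← map_sub]
  exact hw k

include hc in
/-- A local homomorphism to the colimit lifts locally to a stage. -/
theorem locally_lift_lhom {X : C} (β : LHom F c.pt X) :
    ∃ T ∈ J X, ∀ ⦃W : C⦄ (g : W ⟶ X), T.arrows g →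
      ∃ (j : Λ) (α : LHom F (D.obj j) W), α.post (c.ι.app j) = β.res g := by
  let Q : Sieve X :=
    { arrows := fun W g => ∃ (j : Λ) (α : LHom F (D.obj j) W), α.post (c.ι.app j) = β.res g
      downward_closed := fun {W W'} g ⟨j, α, e⟩ k => ⟨j, α.res k, by
        have e' := congrArg (LHom.res k) e
        simpa only [LHom.res, LHom.post, Category.assoc] using! e'⟩ }
  refine ⟨Q, ?_, fun W g hg => hg⟩
  obtain ⟨S, hS, hp⟩ := exists_cover_isPres F X
  refine J.transitive hS Q fun V g hg => ?_
  obtain ⟨n, m, s, r, hs⟩ := hp g hg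
  classical
  choose T hT hTr using fun k : Fin n => locally_rep hc (β.ap g (s k))
  refine J.transitive (finset_inf_mem Finset.univ T fun k _ => hT k) _ fun V' f hf => ?_
  choose i₀ a₀ ha₀ using fun k : Fin n => hTr k f (finset_inf_arrows hf (Finset.mem_univ k))
  obtain ⟨i, hi⟩ := IsFiltered.sup_objs_exists (Finset.univ.image i₀)
  let t : Fin n → ModSite.sect (D.obj i) V' := fun k =>
    app (D.map (hi (Finset.mem_image_of_mem i₀ (Finset.mem_univ k))).some) V' (a₀ k)
  have ht : ∀ k, app (c.ι.app i) V' (t k) = β.ap (f ≫ g) (mapS F f (s k)) := fun k => by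
    rw [← β.nat, ← ha₀ k]
    exact congrArg (fun q : D.obj (i₀ k) ⟶ c.pt => app q V' (a₀ k)) (c.w _)
  have hs' := hs.restrict f
  let r' : Fin m → Fin n → Scal O V' := fun l k => rS O f (r l k)
  have hrel : ∀ l, app (c.ι.app i) V' (comb t (𝟙 V') (r' l)) = 0 := fun l => by
    have e := congrArg (β.ap (f ≫ g)) (hs'.rel l)
    rw [map_zero] at e
    refine Eq.trans ?_ e
    simp only [comb, map_sum, map_smul, mapS_id]
    exact Finset.sum_congr rfl fun k _ => by rw [ht]
  choose T' hT' hTz using fun l : Fin m => locally_zero hc (comb t (𝟙 V') (r' l)) (hrel l)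
  refine J.superset_covering ?_ (finset_inf_mem Finset.univ T' fun l _ => hT' l)
  intro V'' e he
  obtain ⟨j, w, hw⟩ := CollColim.exists_common (i := i)
    (fun l j (w : i ⟶ j) => app (D.map w) V'' (mapS (D.obj i) e (comb t (𝟙 V') (r' l))) = 0)
    (fun k j l w v h => by rw [app_map_comp, h, map_zero])
    fun l => hTz l e (finset_inf_arrows he (Finset.mem_univ l))
  have hs'' := hs'.restrict e
  obtain ⟨α, hα⟩ := exists_lhom (N := D.obj j) hs'' (t := fun k => app (D.map w) V'' (mapS (D.obj i) e (t k)))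
    fun l => by
      refine Eq.trans ?_ (hw l)
      rw [mapS_comb, Category.comp_id]
      simp only [comb, map_sum, map_smul, mapS_id]
      rfl
  refine ⟨j, α, hs''.gen.hom_ext fun k => ?_⟩
  show app (c.ι.app j) V'' (α.ap (𝟙 V'') (mapS F e (mapS F f (s k)))) = β.ap (𝟙 V'' ≫ (e ≫ f) ≫ g) (mapS F e (mapS F f (s k)))
  have e2 : β.ap (e ≫ f ≫ g) (mapS F e (mapS F f (s k))) = app (c.ι.app i) V'' (mapS (D.obj i) e (t k)) := by
    rw [← β.nat, ← ht k]
    exact map_app (c.ι.app i) e (t k)
  rw [hα, Category.id_comp, Category.assoc, e2]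
  exact congrArg (fun q : D.obj i ⟶ c.pt => app q V'' (mapS (D.obj i) e (t k))) (c.w w)

include hc in
/-- A morphism to the colimit lifts locally to a stage. -/
theorem locally_lift (φ : F ⟶ c.pt) (X : C) :
    ∃ T ∈ J X, ∀ ⦃W : C⦄ (g : W ⟶ X), T.arrows g →
      ∃ (j : Λ) (α : LHom F (D.obj j) W), α.post (c.ι.app j) = LHom.ofHom φ W :=
  locally_lift_lhom hc (LHom.ofHom φ X)

end Groth.Agent.DSites.FPHom
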