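import Groth.Agent.FMod90.FreeSect

/-!
# Local homomorphisms of sheaves of modules on a ringed site
-/

universe u

set_option autoImplicit false
set_option backward.isDefEq.respectTransparency false
set_option backward.isDefEq.respectTransparency.types false
set_option linter.unusedSectionVars false
set_option linter.unusedVariables false

open CategoryTheory CategoryTheory.Limits Opposite
open Groth.Agent.FMod90.Site (Scal app mapS mapS_comp map_app map_smul_sect)

namespace Groth.Agent.DSites.FPHom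

variable {C : Type u} [SmallCategory C] {J : GrothendieckTopology C} {O : Sheaf J CommRingCat.{u}}
  {F N P : ModSite.Mod O}

/-- Restriction of scalars. -/
noncomputable abbrev rS (O : Sheaf J CommRingCat.{u}) {W W' : C} (k : W' ⟶ W) : Scal O W →+* Scal O W' :=
  ((ModSite.ringSh O).obj.map k.op).hom

theorem rS_comp {W W' W'' : C} (k : W' ⟶ W) (k' : W'' ⟶ W') (a : Scal O W) :
    rS O k' (rS O k a) = rS O (k' ≫ k) a := by
  simp only [rS, op_comp, Functor.map_comp]
  rfl

theorem mapS_id (M : ModSite.Mod O) {W : C} (x : ModSite.sect M W) : mapS M (𝟙 W) x = x := by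
  simp only [mapS, op_id, CategoryTheory.Functor.map_id]
  rfl

/-- The underlying sheaf of sets. -/
noncomputable abbrev setSh (M : ModSite.Mod O) : Sheaf J (Type u) :=
  (sheafCompose J (CategoryTheory.forget AddCommGrpCat.{u})).obj (ModSite.toAb M)

/-- Sections agreeing on a covering sieve are equal. -/
theorem sect_ext (M : ModSite.Mod O) {W : C} {S : Sieve W} (hS : S ∈ J W) {x y : ModSite.sect M W}
    (h : ∀ ⦃W' : C⦄ (g : W' ⟶ W), S.arrows g → mapS M g x = mapS M g y) : x = y :=
  (((isSheaf_iff_isSheaf_of_type J _).1 (setSh M).property) S hS).isSeparatedFor.ext fun _ g hg => h g hg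

/-- Compatible sections on a covering sieve glue. -/
theorem sect_glue (M : ModSite.Mod O) {W : C} {S : Sieve W} (hS : S ∈ J W)
    (x : ∀ ⦃W' : C⦄ (g : W' ⟶ W), S.arrows g → ModSite.sect M W')
    (hx : ∀ ⦃W' W'' : C⦄ (k : W'' ⟶ W') (g : W' ⟶ W) (hg : S.arrows g),
      mapS M k (x g hg) = x (k ≫ g) (S.downward_closed hg k)) :
    ∃ z, ∀ ⦃W' : C⦄ (g : W' ⟶ W) (hg : S.arrows g), mapS M g z = x g hg := by
  let fam : Presieve.FamilyOfElements (setSh M).obj S.arrows := fun _ g hg => x g hg
  have hc : fam.SieveCompatible := fun _ _ g k hg => (hx k g hg).symm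
  obtain ⟨z, hz, -⟩ := (((isSheaf_iff_isSheaf_of_type J _).1 (setSh M).property) S hS) fam
    ((Presieve.compatible_iff_sieveCompatible fam).2 hc)
  exact ⟨z, fun _ g hg => hz g hg⟩

variable (F N) in
/-- A homomorphism of modules over an object. -/
@[ext]
structure LHom (V : C) where
  /-- The components. -/
  ap : ∀ ⦃W : C⦄, (W ⟶ V) → (ModSite.sect F W →ₗ[Scal O W] ModSite.sect N W)
  nat : ∀ ⦃W W' : C⦄ (k : W' ⟶ W) (g : W ⟶ V) (x : ModSite.sect F W),
    mapS N k (ap g x) = ap (k ≫ g) (mapS F k x)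

theorem LHom.ext' {V : C} {α β : LHom F N V} (h : ∀ ⦃W : C⦄ (g : W ⟶ V) (x : ModSite.sect F W), α.ap g x = β.ap g x) :
    α = β := by
  ext W g x
  exact h g x

/-- Restriction of local homomorphisms. -/
def LHom.res {V V' : C} (f : V' ⟶ V) (α : LHom F N V) : LHom F N V' where
  ap W g := α.ap (g ≫ f)
  nat W W' k g x := by rw [α.nat, Category.assoc]

/-- Postcomposition. -/
noncomputable def LHom.post {V : C} (φ : N ⟶ P) (α : LHom F N V) : LHom F P V where
  ap W g := (app φ W).comp (α.ap g)
  nat W W' k g x := by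
    show mapS P k (app φ W (α.ap g x)) = app φ W' (α.ap (k ≫ g) (mapS F k x))
    rw [map_app, α.nat]

/-- The local homomorphisms of a morphism. -/
noncomputable def LHom.ofHom (φ : F ⟶ N) (V : C) : LHom F N V where
  ap W _ := app φ W
  nat W W' k _ x := map_app φ k x

theorem LHom.res_ofHom (φ : F ⟶ N) {V V' : C} (f : V' ⟶ V) : (LHom.ofHom φ V).res f = LHom.ofHom φ V' := rfl

theorem LHom.post_res (φ : N ⟶ P) {V V' : C} (f : V' ⟶ V) (α : LHom F N V) :
    (α.res f).post φ = (α.post φ).res f := rfl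

/-- Local homomorphisms agreeing on a covering sieve are equal. -/
theorem LHom.hom_ext_cover {V : C} {S : Sieve V} (hS : S ∈ J V) {α β : LHom F N V}
    (h : ∀ ⦃V' : C⦄ (f : V' ⟶ V), S.arrows f → α.res f = β.res f) : α = β := by
  refine LHom.ext' fun W g x => sect_ext N (J.pullback_stable g hS) fun W' k hk => ?_
  rw [α.nat, β.nat]
  have e := congrArg (fun γ : LHom F N W' => γ.ap (𝟙 W') (mapS F k x)) (h (k ≫ g) hk)
  simpa only [LHom.res, Category.id_comp] using e

/-- The presheaf of local homomorphisms. -/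
def lhomPresheaf (F N : ModSite.Mod O) : Cᵒᵖ ⥤ Type u where
  obj V := LHom F N V.unop
  map f := TypeCat.ofHom (LHom.res f.unop)
  map_id V := by
    ext α W g x
    show α.ap (g ≫ 𝟙 _) x = α.ap g x
    rw [Category.comp_id]
  map_comp f f' := by
    ext α W g x
    show α.ap (g ≫ f'.unop ≫ f.unop) x = α.ap ((g ≫ f'.unop) ≫ f.unop) x
    rw [Category.assoc]

/-- Compatible local homomorphisms glue. -/
theorem LHom.glue {V : C} {S : Sieve V} (hS : S ∈ J V) (α : ∀ ⦃V' : C⦄ (f : V' ⟶ V), S.arrows f → LHom F N V')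
    (hα : ∀ ⦃V' V'' : C⦄ (k : V'' ⟶ V') (f : V' ⟶ V) (hf : S.arrows f),
      (α f hf).res k = α (k ≫ f) (S.downward_closed hf k)) :
    ∃ β : LHom F N V, ∀ ⦃V' : C⦄ (f : V' ⟶ V) (hf : S.arrows f), β.res f = α f hf := by
  have key : ∀ ⦃W : C⦄ (g : W ⟶ V) (x : ModSite.sect F W), ∃ z : ModSite.sect N W,
      ∀ ⦃W' : C⦄ (k : W' ⟶ W) (hk : S.arrows (k ≫ g)), mapS N k z = (α (k ≫ g) hk).ap (𝟙 W') (mapS F k x) := by
    intro W g x
    refine sect_glue N (J.pullback_stable g hS)
      (fun W' k hk => (α (k ≫ g) hk).ap (𝟙 W') (mapS F k x)) fun W' W'' l k hk => ?_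
    rw [(α (k ≫ g) hk).nat, mapS_comp]
    have e := congrArg (fun γ : LHom F N W'' => γ.ap (𝟙 W'') (mapS F (l ≫ k) x)) (hα l (k ≫ g) hk)
    simpa only [LHom.res, Category.id_comp, Category.comp_id, Category.assoc] using e
  choose z hz using key
  refine ⟨{ ap := fun W g => { toFun := z g, map_add' := fun x y => ?_, map_smul' := fun a x => ?_ }
            nat := fun W W' k g x => ?_ }, fun V' f hf => ?_⟩
  · refine sect_ext N (J.pullback_stable g hS) fun W' k hk => ?_
    rw [map_add, hz g _ k hk, hz g _ k hk, hz g _ k hk, map_add, map_add]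
  · refine sect_ext N (J.pullback_stable g hS) fun W' k hk => ?_
    rw [RingHom.id_apply, map_smul_sect, hz g _ k hk, hz g _ k hk, map_smul_sect, map_smul]
  · refine sect_ext N (J.pullback_stable (k ≫ g) hS) fun W'' l hl => ?_
    show mapS N l (mapS N k (z g x)) = mapS N l (z (k ≫ g) (mapS F k x))
    rw [mapS_comp, hz (k ≫ g) _ l hl, mapS_comp]
    have hl' : S.arrows ((l ≫ k) ≫ g) := by rw [Category.assoc]; exact hl
    rw [hz g x (l ≫ k) hl']
    simp only [Category.assoc]
  · refine LHom.ext' fun W g x => ?_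
    show z (g ≫ f) x = (α f hf).ap g x
    have h1 := hz (g ≫ f) x (𝟙 W) (by simpa using S.downward_closed hf g)
    rw [mapS_id, mapS_id] at h1
    rw [h1]
    have e := congrArg (fun γ : LHom F N W => γ.ap (𝟙 W) x) (hα g f hf)
    simpa only [LHom.res, Category.id_comp] using e.symm

/-- A compatible choice of local homomorphisms at all objects is a morphism. -/
theorem LHom.exists_hom (α : ∀ V, LHom F N V) (hα : ∀ ⦃V V' : C⦄ (f : V' ⟶ V), (α V).res f = α V') :
    ∃ φ : F ⟶ N, ∀ V, LHom.ofHom φ V = α V := by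
  refine ⟨⟨{ app := fun V => ModuleCat.ofHom (R := (ModSite.ringSh O).obj.obj V)
               { toFun := fun x => (α V.unop).ap (𝟙 _) x
                 map_add' := fun x y => map_add ((α V.unop).ap (𝟙 _)) x y
                 map_smul' := fun a x => map_smul ((α V.unop).ap (𝟙 _)) a x }
             naturality := fun {V V'} g => ?_ }⟩, fun V => LHom.ext' fun W g x => ?_⟩
  · ext x
    show (α V'.unop).ap (𝟙 _) (mapS F g.unop x) = mapS N g.unop ((α V.unop).ap (𝟙 _) x)
    rw [(α V.unop).nat, ← hα g.unop]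
    simp only [LHom.res, Category.id_comp, Category.comp_id]
  · show (α W).ap (𝟙 W) x = (α V).ap g x
    rw [← hα g]
    simp only [LHom.res, Category.id_comp]

theorem lhomPresheaf_isSheaf (F N : ModSite.Mod O) : Presieve.IsSheaf J (lhomPresheaf F N) := by
  intro V S hS x hx
  obtain ⟨β, hβ⟩ := LHom.glue hS (fun V' f hf => x f hf) fun V' V'' k f hf =>
    (((Presieve.compatible_iff_sieveCompatible x).1 hx) f k hf).symm
  exact ⟨β, fun V' f hf => hβ f hf, fun γ hγ => LHom.hom_ext_cover hS fun V' f hf =>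
    (hγ f hf).trans (hβ f hf).symm⟩

end Groth.Agent.DSites.FPHom
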