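import Groth.Agent.DSites.FPHom.LHom
import Groth.Agent.DSites.LocalFree
import Mathlib.CategoryTheory.Sites.Over

/-!
# Presentations by sections over objects of a ringed site
-/

universe u

set_option autoImplicit false
set_option backward.isDefEq.respectTransparency false
set_option backward.isDefEq.respectTransparency.types false
set_option linter.unusedSectionVars false
set_option linter.unusedVariables false

open CategoryTheory CategoryTheory.Limits Opposite
open Groth.Agent.FMod90.Site (Scal app mapS mapS_comp map_app map_smul_sect)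

namespace Groth.Agent.DSites.FPHom

variable {C : Type u} [SmallCategory C] {J : GrothendieckTopology C} {O : Sheaf J CommRingCat.{u}}
  {F N P : ModSite.Mod O} {U : C} {n m : ℕ}

/-- A linear combination of restricted sections. -/
noncomputable def comb (s : Fin n → ModSite.sect F U) {W : C} (g : W ⟶ U) (a : Fin n → Scal O W) : ModSite.sect F W :=
  ∑ i, a i • mapS F g (s i)

theorem mapS_comb (s : Fin n → ModSite.sect F U) {W W' : C} (g : W ⟶ U) (k : W' ⟶ W) (a : Fin n → Scal O W) :
    mapS F k (comb s g a) = comb s (k ≫ g) fun i => rS O k (a i) := by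
  simp only [comb, map_sum]
  exact Finset.sum_congr rfl fun i _ => by rw [map_smul_sect, mapS_comp]

theorem ap_comb {V : C} (α : LHom F N V) (s : Fin n → ModSite.sect F U) {W : C} (g : W ⟶ U) (f : U ⟶ V)
    (a : Fin n → Scal O W) : α.ap (g ≫ f) (comb s g a) = comb (fun i => α.ap f (s i)) g a := by
  simp only [comb, map_sum, map_smul, α.nat]

theorem comb_sub (s : Fin n → ModSite.sect F U) {W : C} (g : W ⟶ U) (a b : Fin n → Scal O W) :
    comb s g (fun i => a i - b i) = comb s g a - comb s g b := by
  simp only [comb, sub_smul, Finset.sum_sub_distrib]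

theorem comb_add (s : Fin n → ModSite.sect F U) {W : C} (g : W ⟶ U) (a b : Fin n → Scal O W) :
    comb s g (fun i => a i + b i) = comb s g a + comb s g b := by
  simp only [comb, add_smul, Finset.sum_add_distrib]

theorem comb_mul (s : Fin n → ModSite.sect F U) {W : C} (g : W ⟶ U) (c : Scal O W) (a : Fin n → Scal O W) :
    comb s g (fun i => c * a i) = c • comb s g a := by
  simp only [comb, mul_smul, Finset.smul_sum]

theorem comb_relation (t : Fin n → ModSite.sect N U) (r : Fin m → Fin n → Scal O U) {W : C} (g : W ⟶ U)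
    (c : Fin m → Scal O W) :
    comb t g (fun i => ∑ l, c l * rS O g (r l i)) = ∑ l, c l • mapS N g (comb t (𝟙 U) (r l)) := by
  simp only [mapS_comb, Category.comp_id]
  simp only [comb, Finset.sum_smul, Finset.smul_sum, mul_smul]
  exact Finset.sum_comm

/-- The standard coefficient vectors. -/
noncomputable def delta {W : C} (i : Fin n) : Fin n → Scal O W := fun j => if j = i then 1 else 0

theorem comb_delta (s : Fin n → ModSite.sect F U) {W : C} (g : W ⟶ U) (i : Fin n) :
    comb s g (delta i) = mapS F g (s i) := by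
  simp [comb, delta]

variable (F) in
/-- The sections generate the module over the object. -/
def IsGen (s : Fin n → ModSite.sect F U) : Prop :=
  ∀ ⦃W : C⦄ (g : W ⟶ U) (y : ModSite.sect F W), ∃ S ∈ J W, ∀ ⦃W' : C⦄ (k : W' ⟶ W), S.arrows k →
    ∃ a : Fin n → Scal O W', comb s (k ≫ g) a = mapS F k y

variable (F) in
/-- A presentation by sections and relations. -/
structure IsPres (s : Fin n → ModSite.sect F U) (r : Fin m → Fin n → Scal O U) : Prop where
  gen : IsGen F s
  rel : ∀ l, comb s (𝟙 U) (r l) = 0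
  exact : ∀ ⦃W : C⦄ (g : W ⟶ U) (a : Fin n → Scal O W), comb s g a = 0 →
    ∃ S ∈ J W, ∀ ⦃W' : C⦄ (k : W' ⟶ W), S.arrows k → ∃ c : Fin m → Scal O W',
      ∀ i, rS O k (a i) = ∑ l, c l * rS O (k ≫ g) (r l i)

theorem IsPres.restrict {s : Fin n → ModSite.sect F U} {r : Fin m → Fin n → Scal O U} (hp : IsPres F s r)
    {V : C} (f : V ⟶ U) : IsPres F (fun i => mapS F f (s i)) fun l i => rS O f (r l i) := by
  have e : ∀ ⦃W : C⦄ (g : W ⟶ V) (a : Fin n → Scal O W), comb (fun i => mapS F f (s i)) g a = comb s (g ≫ f) a := by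
    intro W g a
    simp only [comb, mapS_comp]
  refine ⟨fun W g y => ?_, fun l => ?_, fun W g a ha => ?_⟩
  · obtain ⟨S, hS, h⟩ := hp.gen (g ≫ f) y
    exact ⟨S, hS, fun W' k hk => by
      obtain ⟨a, ha⟩ := h k hk
      exact ⟨a, by rw [e, Category.assoc]; exact ha⟩⟩
  · rw [e, Category.id_comp]
    have h := congrArg (mapS F f) (hp.rel l)
    rwa [mapS_comb, map_zero, Category.comp_id] at h
  · rw [e] at ha
    obtain ⟨S, hS, h⟩ := hp.exact (g ≫ f) a ha
    exact ⟨S, hS, fun W' k hk => by
      obtain ⟨c, hc⟩ := h k hk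
      exact ⟨c, fun i => (hc i).trans (Finset.sum_congr rfl fun l _ => by rw [rS_comp, Category.assoc])⟩⟩

/-- A local homomorphism is determined by its values on generators. -/
theorem IsGen.hom_ext {s : Fin n → ModSite.sect F U} (hs : IsGen F s) {α β : LHom F N U}
    (h : ∀ i, α.ap (𝟙 U) (s i) = β.ap (𝟙 U) (s i)) : α = β := by
  refine LHom.ext' fun W g x => ?_
  obtain ⟨S, hS, hx⟩ := hs g x
  refine sect_ext N hS fun W' k hk => ?_
  obtain ⟨a, ha⟩ := hx k hk
  rw [α.nat, β.nat, ← ha]
  have e1 := ap_comb α s (k ≫ g) (𝟙 U) a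
  have e2 := ap_comb β s (k ≫ g) (𝟙 U) a
  rw [Category.comp_id] at e1 e2
  rw [e1, e2]
  exact congrArg (fun t => comb t (k ≫ g) a) (funext h)

section hom

variable {s : Fin n → ModSite.sect F U} {r : Fin m → Fin n → Scal O U} (hp : IsPres F s r)
  {t : Fin n → ModSite.sect N U} (ht : ∀ l, comb t (𝟙 U) (r l) = 0)

include hp ht

theorem comb_congr {W : C} {g : W ⟶ U} {a b : Fin n → Scal O W} (hab : comb s g a = comb s g b) :
    comb t g a = comb t g b := by
  rw [← sub_eq_zero, ← comb_sub]
  obtain ⟨S, hS, h⟩ := hp.exact g (fun i => a i - b i) (by rw [comb_sub, hab, sub_self])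
  refine sect_ext N hS fun W' k hk => ?_
  obtain ⟨c, hc⟩ := h k hk
  rw [mapS_comb, map_zero]
  simp only [hc]
  rw [comb_relation]
  simp [ht]

omit hp ht in
variable (s t) in
/-- `z` is the image of `y` under the local homomorphism with `s i ↦ t i`. -/
def Rel {W : C} (g : W ⟶ U) (y : ModSite.sect F W) (z : ModSite.sect N W) : Prop :=
  ∀ ⦃W' : C⦄ (k : W' ⟶ W) (a : Fin n → Scal O W'), comb s (k ≫ g) a = mapS F k y → mapS N k z = comb t (k ≫ g) a

theorem rel_unique {W : C} {g : W ⟶ U} {y : ModSite.sect F W} {z z' : ModSite.sect N W}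
    (hz : Rel s t g y z) (hz' : Rel s t g y z') : z = z' := by
  obtain ⟨S, hS, h⟩ := hp.gen g y
  refine sect_ext N hS fun W' k hk => ?_
  obtain ⟨a, ha⟩ := h k hk
  rw [hz k a ha, hz' k a ha]

theorem exists_rel {W : C} (g : W ⟶ U) (y : ModSite.sect F W) : ∃ z, Rel s t g y z := by
  obtain ⟨S, hS, h⟩ := hp.gen g y
  choose a ha using h
  obtain ⟨z, hz⟩ := sect_glue N hS (fun W' k hk => comb t (k ≫ g) (a k hk)) fun W' W'' l k hk => by
    rw [mapS_comb, ← Category.assoc]
    refine comb_congr hp ht ?_
    rw [ha (l ≫ k), Category.assoc, ← mapS_comb, ha k hk, mapS_comp]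
  refine ⟨z, fun W' k b hb => sect_ext N (J.pullback_stable k hS) fun W'' l hl => ?_⟩
  rw [mapS_comp, hz (l ≫ k) hl, mapS_comb, ← Category.assoc]
  refine comb_congr hp ht ?_
  rw [ha (l ≫ k) hl, Category.assoc, ← mapS_comb, hb, mapS_comp]

/-- The local homomorphism with prescribed values on the generators of a presentation. -/
theorem exists_lhom : ∃ α : LHom F N U, ∀ i, α.ap (𝟙 U) (s i) = t i := by
  choose z hz using fun (W : C) (g : W ⟶ U) (y : ModSite.sect F W) => exists_rel hp ht g y
  have hadd : ∀ (W : C) (g : W ⟶ U) (x y : ModSite.sect F W), z W g (x + y) = z W g x + z W g y := by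
    refine fun W g x y => rel_unique hp ht (hz W g (x + y)) fun W' k b hb => ?_
    obtain ⟨S, hS, h⟩ := hp.gen (k ≫ g) (mapS F k x)
    refine sect_ext N hS fun W'' l hl => ?_
    obtain ⟨a, ha⟩ := h l hl
    rw [mapS_comp, ← Category.assoc] at ha
    have hb' := congrArg (mapS F l) hb
    rw [mapS_comp, map_add, ← ha, mapS_comb, ← Category.assoc, ← sub_eq_iff_eq_add'] at hb'
    rw [mapS_comp, map_add, hz W g x (l ≫ k) a ha,
      hz W g y (l ≫ k) (fun i => rS O l (b i) - a i) (by rw [comb_sub, hb']), comb_sub, mapS_comb,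
      ← Category.assoc, add_sub_cancel]
  have hsmul : ∀ (W : C) (g : W ⟶ U) (c : Scal O W) (y : ModSite.sect F W), z W g (c • y) = c • z W g y := by
    refine fun W g c y => rel_unique hp ht (hz W g (c • y)) fun W' k b hb => ?_
    obtain ⟨S, hS, h⟩ := hp.gen (k ≫ g) (mapS F k y)
    refine sect_ext N hS fun W'' l hl => ?_
    obtain ⟨a, ha⟩ := h l hl
    rw [mapS_comp, ← Category.assoc] at ha
    have hb' := congrArg (mapS F l) hb
    rw [mapS_comp, map_smul_sect, ← ha, mapS_comb, ← Category.assoc, ← comb_mul] at hb'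
    rw [mapS_comp, map_smul_sect, hz W g y (l ≫ k) a ha, ← comb_mul, mapS_comb, ← Category.assoc]
    exact (comb_congr hp ht hb').symm
  refine ⟨{ ap := fun W g => { toFun := z W g, map_add' := hadd W g, map_smul' := hsmul W g }
            nat := fun W W' k g x => ?_ }, fun i => ?_⟩
  · refine rel_unique hp ht (fun W'' l b hb => ?_) (hz W' (k ≫ g) (mapS F k x))
    show mapS N l (mapS N k (z W g x)) = _
    rw [mapS_comp, ← Category.assoc]
    exact hz W g x (l ≫ k) b (by rw [Category.assoc, hb, mapS_comp])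
  · show z U (𝟙 U) (s i) = t i
    have h := hz U (𝟙 U) (s i) (𝟙 U) (delta i) (by simp only [comb_delta, Category.comp_id, mapS_id])
    simpa only [comb_delta, Category.comp_id, mapS_id] using h

end hom

section data

theorem mem_over_iff' {Y : Over U} {S : Sieve Y} (hS : S ∈ J.over U Y) :
    Sieve.overEquiv Y S ∈ J Y.left := (GrothendieckTopology.mem_over_iff J S).1 hS

open Groth.Agent.FMod90 in
theorem over_sections_val (a : (F.over U).sections) (Y : Over U) :
    (a.val (op Y) : ModSite.sect F Y.left) = mapS F Y.hom (a.val (op (Over.mk (𝟙 U)))) :=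
  (a.property (Over.homMk Y.hom : Y ⟶ Over.mk (𝟙 U)).op).symm

variable {I : Type u} [Fintype I]

open Groth.Agent.FMod90 in
theorem app_free_sum (φ : (SheafOfModules.free I : ModSite.Mod (O.over U)) ⟶ F.over U)
    (Y : Over U) (a : I → Scal O Y.left) :
    (Site.app φ Y (∑ i, (a i : Site.Scal (O.over U) Y) • Site.basisSec (O := O.over U) i Y) : ModSite.sect F Y.left) =
      ∑ i, a i • mapS F Y.hom ((F.over U).freeHomEquiv φ i |>.val (op (Over.mk (𝟙 U)))) := by
  rw [map_sum]
  refine Finset.sum_congr rfl fun i _ => ?_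
  rw [map_smul, Site.app_basisSec, over_sections_val]

set_option maxHeartbeats 1000000 in
open Groth.Agent.FMod90 in
/-- A finite presentation over an object gives a presentation by sections. -/
theorem exists_isPres_of_presentation (P : (F.over U).Presentation) [P.IsFinite] :
    ∃ (n m : ℕ) (s : Fin n → ModSite.sect F U) (r : Fin m → Fin n → Scal O U), IsPres F s r := by
  have := Fintype.ofFinite P.generators.I
  have := Fintype.ofFinite P.relations.I
  let e := Fintype.equivFin P.generators.I
  let e' := Fintype.equivFin P.relations.I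
  let Y₀ : Over U := Over.mk (𝟙 U)
  let s : Fin (Fintype.card P.generators.I) → ModSite.sect F U :=
    fun i => ((P.generators.s (e.symm i)).val (op Y₀) : ModSite.sect F U)
  have hcomb : ∀ {W : C} (g : W ⟶ U) (a : P.generators.I → Scal O W),
      (Site.app P.generators.π (Over.mk g) (∑ j, (a j : Site.Scal (O.over U) (Over.mk g)) •
        Site.basisSec (O := O.over U) j (Over.mk g)) : ModSite.sect F W) = comb s g fun i => a (e.symm i) := by
    intro W g a
    refine (app_free_sum P.generators.π (Over.mk g) a).trans ?_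
    rw [Equiv.apply_symm_apply]
    exact (e.symm.sum_comp fun j => a j • mapS F g ((P.generators.s j).val (op Y₀))).symm
  let f : (SheafOfModules.free P.relations.I : ModSite.Mod (O.over U)) ⟶
      SheafOfModules.free P.generators.I := P.relations.π ≫ kernel.ι P.generators.π
  let ρ : P.relations.I → ModSite.sect (SheafOfModules.free P.generators.I : ModSite.Mod (O.over U)) Y₀ :=
    fun l => Site.app f Y₀ (Site.basisSec (O := O.over U) l Y₀)
  have hρ : ∀ l, Site.app P.generators.π Y₀ (ρ l) = 0 := fun l => by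
    rw [← Site.app_comp]
    simp only [f, Category.assoc, kernel.condition, comp_zero]
    exact Site.app_zero _ _
  refine ⟨_, _, s, fun l i => Site.app (Site.proj (O := O.over U) (e.symm i)) Y₀ (ρ (e'.symm l)), ⟨?_, ?_, ?_⟩⟩
  · intro W g y
    obtain ⟨S, hS, hlift⟩ := Site.exists_cover_lift (O := O.over U) P.generators.π (W := Over.mk g) y
    refine ⟨_, mem_over_iff' hS, fun W' k hk => ?_⟩
    obtain ⟨z, hz⟩ := hlift (Over.homMk k : Over.mk (k ≫ g) ⟶ Over.mk g) ((Sieve.overEquiv_iff _ _).1 hk)
    refine ⟨fun i => Site.app (Site.proj (O := O.over U) (e.symm i)) (Over.mk (k ≫ g)) z, ?_⟩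
    refine (hcomb (k ≫ g) fun j => Site.app (Site.proj (O := O.over U) j) (Over.mk (k ≫ g)) z).symm.trans ?_
    refine Eq.trans ?_ hz
    exact congrArg (Site.app P.generators.π (Over.mk (k ≫ g))) (Site.eq_sum _ z).symm
  · intro l
    refine ((hcomb (𝟙 U) fun j => Site.app (Site.proj (O := O.over U) j) Y₀ (ρ (e'.symm l))).symm.trans ?_)
    refine Eq.trans ?_ (hρ (e'.symm l))
    exact congrArg (Site.app P.generators.π Y₀) (Site.eq_sum _ (ρ (e'.symm l))).symm
  · intro W g a ha
    let Y : Over U := Over.mk g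
    have hz : Site.app P.generators.π Y
        (∑ j, (a (e j) : Site.Scal (O.over U) Y) • Site.basisSec (O := O.over U) j Y) = 0 := by
      refine (hcomb g fun j => a (e j)).trans (Eq.trans ?_ ha)
      simp only [Equiv.apply_symm_apply]
    obtain ⟨k₀, hk₀⟩ := Site.exists_kernel_lift _ _ hz
    obtain ⟨S, hS, hlift⟩ := Site.exists_cover_lift P.relations.π (W := Y) k₀
    refine ⟨_, mem_over_iff' hS, fun W' k hk => ?_⟩
    let Y' : Over U := Over.mk (k ≫ g)
    let κ : Y' ⟶ Y := Over.homMk k
    obtain ⟨z, hz'⟩ := hlift κ ((Sieve.overEquiv_iff _ _).1 hk)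
    refine ⟨fun l => Site.app (Site.proj (O := O.over U) (e'.symm l)) Y' z, fun i => ?_⟩
    have hfz : Site.app f Y' z = Site.mapS _ κ
        (∑ j, (a (e j) : Site.Scal (O.over U) Y) • Site.basisSec (O := O.over U) j Y) := by
      rw [← hk₀, Site.map_app, ← hz']
      rfl
    have h2 := Site.coeff_of_lift f (Over.homMk (k ≫ g) : Y' ⟶ Y₀) κ _ z hfz (e.symm i)
    simp only [Site.coeff, Site.app_proj_sum] at h2
    refine Eq.trans (congrArg (rS O k) ?_) (h2.trans ?_)
    · exact congrArg a (e.apply_symm_apply i).symm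
    · exact (e'.symm.sum_comp fun j => (show Scal O W' from Site.coeff (O := O.over U) j Y' z) *
        rS O (k ≫ g) (show Scal O U from Site.coeff (O := O.over U) (e.symm i) Y₀ (ρ j))).symm

/-- A finitely presented module is locally presented by sections. -/
theorem exists_cover_isPres (F : ModSite.Mod O) [F.IsFinitePresentation] (X : C) :
    ∃ S ∈ J X, ∀ ⦃V : C⦄ (g : V ⟶ X), S.arrows g →
      ∃ (n m : ℕ) (s : Fin n → ModSite.sect F V) (r : Fin m → Fin n → Scal O V), IsPres F s r := by
  obtain ⟨σ, hσ⟩ := SheafOfModules.IsFinitePresentation.exists_quasicoherentData F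
  refine ⟨_, σ.coversTop X, fun V g hg => ?_⟩
  obtain ⟨i, ⟨v⟩⟩ := hg
  obtain ⟨Q, hQ⟩ := LocalFree.exists_presentation v (σ.presentation i)
  exact exists_isPres_of_presentation Q

end data

end Groth.Agent.DSites.FPHom
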