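import Groth.Agent.DSites.FPHom.Colim
import Groth.Agent.ModTensor.FreeOn
import Mathlib.CategoryTheory.Sites.LocallyBijective

/-!
# Sections of the internal hom as local homomorphisms
-/

universe u

set_option autoImplicit false
set_option backward.isDefEq.respectTransparency false
set_option backward.isDefEq.respectTransparency.types false
set_option linter.unusedSectionVars false
set_option linter.unusedVariables false

open CategoryTheory CategoryTheory.Limits Opposite MonoidalCategory
open Groth.Agent.ModTensor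
open Groth.Agent.FMod90.Site (Scal app mapS mapS_comp map_app map_smul_sect)

namespace Groth.Agent.DSites.FPHom

variable {C : Type u} [SmallCategory C] {J : GrothendieckTopology C} {O : Sheaf J CommRingCat.{u}}
  (F : ModSite.Mod O) [ModSite.HasSheafHom F]

/-- The evaluation on presheaves. -/
noncomputable def evP (N : ModSite.Mod O) :
    ((fg O).obj ((ModSite.sheafHom F).obj N) ⊗ (fg O).obj F : P₀ O) ⟶ (fg O).obj N :=
  (shAdj O).unit.app ((fg O).obj ((ModSite.sheafHom F).obj N) ⊗ (fg O).obj F : P₀ O) ≫
    (fg O).map ((ModSite.sheafHomAdj F).counit.app N)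

/-- Currying on presheaves. -/
noncomputable def Φ (N : ModSite.Mod O) {P : P₀ O} (f : P ⟶ (fg O).obj ((ModSite.sheafHom F).obj N)) :
    (P ⊗ (fg O).obj F : P₀ O) ⟶ (fg O).obj N :=
  f ▷ (fg O).obj F ≫ evP F N

theorem bijective_Φ (N : ModSite.Mod O) (P : P₀ O) : Function.Bijective (Φ F N (P := P)) := by
  have h1 := bijective_whiskerRight_comp (J := J) (H := (fg O).obj N) (M := (fg O).obj F) N.isSheaf
    ((shAdj O).unit.app P)
  let e := (((ModSite.sheafHomAdj F).homEquiv ((sh O).obj P) N).symm).trans
    ((shAdj O).homEquiv ((fg O).obj ((sh O).obj P) ⊗ (fg O).obj F : P₀ O) N)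
  have he : Φ F N ∘ (shAdj O).homEquiv P ((ModSite.sheafHom F).obj N) =
      (fun φ => (shAdj O).unit.app P ▷ (fg O).obj F ≫ φ) ∘ e := by
    funext g
    show Φ F N ((shAdj O).homEquiv P ((ModSite.sheafHom F).obj N) g) =
      (shAdj O).unit.app P ▷ (fg O).obj F ≫ (shAdj O).homEquiv _ N (((ModSite.sheafHomAdj F).homEquiv _ N).symm g)
    rw [Adjunction.homEquiv_counit, Adjunction.homEquiv_unit, Adjunction.homEquiv_unit, Φ, comp_whiskerRight,
      Category.assoc]
    refine congrArg (_ ≫ ·) ?_
    show (fg O).map g ▷ (fg O).obj F ≫ evP F N = _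
    rw [Functor.map_comp, ← Category.assoc]
    show _ = ((shAdj O).unit.app ((fg O).obj ((sh O).obj P) ⊗ (fg O).obj F : P₀ O) ≫
      (fg O).map ((sh O).map ((fg O).map g ▷ (fg O).obj F))) ≫ _
    rw [evP, ← Category.assoc]
    exact congrArg (· ≫ _) ((shAdj O).unit.naturality ((fg O).map g ▷ (fg O).obj F))
  exact Function.Bijective.of_comp_iff _ ((shAdj O).homEquiv P _).bijective |>.1
    (he ▸ h1.comp e.bijective)

/-- The free presheaf of modules on an object. -/
noncomputable abbrev freeY (O : Sheaf J CommRingCat.{u}) (V : C) : P₀ O :=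
  (PresheafOfModules.free (O.obj ⋙ forget₂ CommRingCat.{u} RingCat.{u})).obj (yoneda.obj V)

/-- The basis sections of the free presheaf. -/
noncomputable abbrev bas {V W : C} (g : W ⟶ V) : (freeY O V).obj (op W) :=
  ModuleCat.freeMk (R := O.obj.obj (op W)) (show (yoneda.obj V).obj (op W) from g)

theorem rs_bas {V W W' : C} (g : W ⟶ V) (k : W' ⟶ W) : rs (freeY O V) k.op (bas g) = bas (k ≫ g) :=
  ModuleCat.freeDesc_apply _ _

/-- The map from the free presheaf given by a section. -/
noncomputable def ofSec {M : ModSite.Mod O} {V : C} (a : ModSite.sect M V) : freeY O V ⟶ (fg O).obj M :=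
  PresheafOfModules.freeHomEquiv.symm
    (yonedaEquiv.symm (show (((fg O).obj M).presheaf ⋙ CategoryTheory.forget Ab).obj (op V) from a))

theorem ofSec_bas {M : ModSite.Mod O} {V W : C} (a : ModSite.sect M V) (g : W ⟶ V) :
    (ofSec a).app (op W) (bas g) = mapS M g a :=
  ModuleCat.freeDesc_apply _ _

theorem eq_ofSec {M : ModSite.Mod O} {V : C} (f : freeY O V ⟶ (fg O).obj M) :
    f = ofSec (f.app (op V) (bas (𝟙 V))) := by
  ext1 W
  refine ModuleCat.free_hom_ext fun g => ?_
  refine Eq.trans ?_ (ofSec_bas (f.app (op V) (bas (𝟙 V))) (show W.unop ⟶ V from g)).symm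
  show f.app W _ = rs ((fg O).obj M) (show W.unop ⟶ V from g).op _
  rw [← app_rs, rs_bas, Category.comp_id]

variable {F} in
/-- The local homomorphism of a section of the internal hom. -/
noncomputable def toL {N : ModSite.Mod O} {V : C} (a : ModSite.sect ((ModSite.sheafHom F).obj N) V) : LHom F N V where
  ap W g :=
    { toFun := fun x => (evP F N).app (op W) (tm (P := (fg O).obj ((ModSite.sheafHom F).obj N)) (M := (fg O).obj F)
        (mapS _ g a) x)
      map_add' := fun x y => by
        exact (congrArg ((evP F N).app (op W)).hom (TensorProduct.tmul_add _ x y)).trans (map_add _ _ _)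
      map_smul' := fun r x => by
        exact (congrArg ((evP F N).app (op W)).hom (TensorProduct.tmul_smul (R := O.obj.obj (op W)) (show O.obj.obj (op W) from r) _ x)).trans
          (map_smul _ _ _) }
  nat W W' k g x := by
    show rs ((fg O).obj N) k.op _ = _
    refine (app_rs (evP F N) k.op (tm (mapS _ g a) x)).symm.trans ?_
    exact congrArg (fun s => (evP F N).app (op W') (tm (P := (fg O).obj ((ModSite.sheafHom F).obj N)) s
      (mapS F k x))) (mapS_comp g k a)

theorem toL_res {N : ModSite.Mod O} {V V' : C} (f : V' ⟶ V) (a : ModSite.sect ((ModSite.sheafHom F).obj N) V) :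
    toL (mapS _ f a) = (toL a).res f :=
  LHom.ext' fun W g x => congrArg (fun s => (evP F N).app (op W)
    (tm (P := (fg O).obj ((ModSite.sheafHom F).obj N)) (M := (fg O).obj F) s x)) (mapS_comp f g a)

theorem evP_natural {N N' : ModSite.Mod O} (φ : N ⟶ N') :
    (fg O).map ((ModSite.sheafHom F).map φ) ▷ (fg O).obj F ≫ evP F N' = evP F N ≫ (fg O).map φ := by
  rw [evP, evP, Category.assoc, ← Functor.map_comp]
  refine Eq.trans ?_ (congrArg (fun t => (shAdj O).unit.app _ ≫ (fg O).map t) ((ModSite.sheafHomAdj F).counit.naturality φ))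
  rw [Functor.map_comp, ← Category.assoc, ← Category.assoc]
  exact congrArg (· ≫ _) ((shAdj O).unit.naturality ((fg O).map ((ModSite.sheafHom F).map φ) ▷ (fg O).obj F))

theorem toL_natural {N N' : ModSite.Mod O} (φ : N ⟶ N') {V : C} (a : ModSite.sect ((ModSite.sheafHom F).obj N) V) :
    toL (app ((ModSite.sheafHom F).map φ) V a) = (toL a).post φ := by
  refine LHom.ext' fun W g x => ?_
  show (evP F N').app (op W) _ = app φ W _
  rw [map_app]
  exact congrArg (fun k : ((fg O).obj ((ModSite.sheafHom F).obj N) ⊗ (fg O).obj F : P₀ O) ⟶ (fg O).obj N' =>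
    k.app (op W) (tm (mapS _ g a) x)) (evP_natural F φ)

theorem Φ_ofSec_bas {N : ModSite.Mod O} {V W : C} (a : ModSite.sect ((ModSite.sheafHom F).obj N) V) (g : W ⟶ V)
    (x : ModSite.sect F W) :
    (Φ F N (ofSec a)).app (op W) (tm (P := freeY O V) (M := (fg O).obj F) (bas g) x) = (toL a).ap g x := by
  show (evP F N).app (op W) (tm ((ofSec a).app (op W) (bas g)) x) = _
  rw [ofSec_bas]
  rfl

theorem hom_ext_bas {V : C} {Q : P₀ O} {k₁ k₂ : (freeY O V ⊗ (fg O).obj F : P₀ O) ⟶ Q}
    (h : ∀ ⦃W : C⦄ (g : W ⟶ V) (x : ModSite.sect F W),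
      k₁.app (op W) (tm (P := freeY O V) (M := (fg O).obj F) (bas g) x) =
        k₂.app (op W) (tm (P := freeY O V) (M := (fg O).obj F) (bas g) x)) : k₁ = k₂ := by
  refine hom_ext_tm fun W p x => ?_
  induction p using Finsupp.induction_linear with
  | zero => simp only [tm, TensorProduct.zero_tmul, map_zero]
  | add p q hp hq => simp only [tm, TensorProduct.add_tmul, map_add]; exact congrArg₂ (· + ·) hp hq
  | single g r =>
    have e : (Finsupp.single g r : (freeY O V).obj W) = (show O.obj.obj W from r) • bas (W := W.unop) (show W.unop ⟶ V from g) :=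
      (Finsupp.smul_single_one g r).symm
    have e2 : ∀ k : (freeY O V ⊗ (fg O).obj F : P₀ O) ⟶ Q,
        k.app W (tm (P := freeY O V) (M := (fg O).obj F) ((show O.obj.obj W from r) • bas (W := W.unop) (show W.unop ⟶ V from g)) x) =
          (show O.obj.obj W from r) • k.app W (tm (P := freeY O V) (M := (fg O).obj F) (bas (W := W.unop) (show W.unop ⟶ V from g)) x) :=
      fun k => (congrArg (k.app W).hom (TensorProduct.smul_tmul' (R := O.obj.obj W) (show O.obj.obj W from r) _ x).symm).trans (map_smul _ _ _)
    rw [e, e2 k₁, e2 k₂, h]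

theorem bijective_toL (N : ModSite.Mod O) (V : C) :
    Function.Bijective (toL (F := F) (N := N) (V := V)) := by
  refine ⟨fun a b h => ?_, fun α => ?_⟩
  · have h1 : Φ F N (ofSec a) = Φ F N (ofSec b) := hom_ext_bas F fun W g x => by
      rw [Φ_ofSec_bas, Φ_ofSec_bas, h]
    have h2 := congrArg (fun f : freeY O V ⟶ (fg O).obj ((ModSite.sheafHom F).obj N) => f.app (op V) (bas (𝟙 V)))
      ((bijective_Φ F N (freeY O V)).1 h1)
    rwa [show (ofSec a).app (op V) (bas (𝟙 V)) = mapS _ (𝟙 V) a from ofSec_bas a _,
      show (ofSec b).app (op V) (bas (𝟙 V)) = mapS _ (𝟙 V) b from ofSec_bas b _, mapS_id, mapS_id] at h2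
  · let comp : ∀ W : Cᵒᵖ, (freeY O V).obj W →ₗ[O.obj.obj W] (((fg O).obj F).obj W →ₗ[O.obj.obj W] ((fg O).obj N).obj W) :=
      fun W => Finsupp.lift _ (O.obj.obj W) _ fun g =>
        { toFun := fun x => α.ap (show W.unop ⟶ V from g) x
          map_add' := fun x y => map_add (α.ap (show W.unop ⟶ V from g)) x y
          map_smul' := fun r x => map_smul (α.ap (show W.unop ⟶ V from g)) r x }
    have hcomp : ∀ {W : C} (g : W ⟶ V) (x : ModSite.sect F W), comp (op W) (bas g) x = α.ap g x := by
      intro W g x
      simp only [comp, bas, ModuleCat.freeMk]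
      erw [Finsupp.lift_apply, Finsupp.sum_single_index]
      · erw [one_smul]
        rfl
      · exact zero_smul _ _
    let k : (freeY O V ⊗ (fg O).obj F : P₀ O) ⟶ (fg O).obj N :=
      { app := fun W => ModuleCat.MonoidalCategory.tensorLift (R := O.obj.obj W) (fun p x => comp W p x)
          (fun p q x => by rw [map_add]; rfl) (fun r p x => by rw [map_smul]; rfl)
          (fun p x y => map_add (comp W p) x y) (fun r p x => map_smul (comp W p) r x)
        naturality := fun {W W'} f => ModuleCat.MonoidalCategory.tensor_ext fun p x => by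
          show comp W' (rs (freeY O V) f p) (rs ((fg O).obj F) f x) = rs ((fg O).obj N) f (comp W p x)
          induction p using Finsupp.induction_linear with
          | zero =>
            rw [show rs (freeY O V) f 0 = 0 from map_zero ((freeY O V).map f).hom, map_zero, map_zero]
            exact (map_zero (((fg O).obj N).map f).hom).symm
          | add p q hp hq =>
            rw [rs_add, map_add, map_add, LinearMap.add_apply, LinearMap.add_apply, rs_add, hp, hq]
          | single g r =>
            have e : (Finsupp.single g r : (freeY O V).obj W) = (show O.obj.obj W from r) • bas (W := W.unop) (show W.unop ⟶ V from g) :=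
              (Finsupp.smul_single_one g r).symm
            rw [e, rs_smul, map_smul, map_smul, LinearMap.smul_apply, LinearMap.smul_apply, rs_smul]
            refine congrArg (_ • ·) ?_
            refine ((congrArg (fun p => comp W' p (rs ((fg O).obj F) f x))
              (rs_bas (show W.unop ⟶ V from g) f.unop)).trans (hcomp _ _)).trans ?_
            exact (α.nat f.unop (show W.unop ⟶ V from g) x).symm.trans
              (congrArg (rs ((fg O).obj N) f) (hcomp _ x).symm) }
    obtain ⟨f, hf⟩ := (bijective_Φ F N (freeY O V)).2 k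
    refine ⟨f.app (op V) (bas (𝟙 V)), LHom.ext' fun W g x => ?_⟩
    rw [← Φ_ofSec_bas, ← eq_ofSec, hf]
    exact hcomp g x

variable [F.IsFinitePresentation] {Λ : Type u} [SmallCategory Λ] [IsFiltered Λ]

/-- The internal hom out of a finitely presented module commutes with filtered colimits. -/
theorem preservesColimit_sheafHom (D : Λ ⥤ ModSite.Mod O) : PreservesColimit D (ModSite.sheafHom F) := by
  let H := ModSite.sheafHom F
  let c := colimit.cocone D
  let hc : IsColimit c := colimit.isColimit D
  let c' := colimit.cocone (D ⋙ H)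
  let hc' : IsColimit c' := colimit.isColimit (D ⋙ H)
  let κ : c'.pt ⟶ H.obj c.pt := colimit.desc (D ⋙ H) (H.mapCocone c)
  have hκ : ∀ (i : Λ) {V : C} (a : ModSite.sect (H.obj (D.obj i)) V),
      app κ V (app (c'.ι.app i) V a) = app (H.map (c.ι.app i)) V a := fun i V a =>
    congrArg (fun q : H.obj (D.obj i) ⟶ H.obj c.pt => app q V a) (colimit.ι_desc (H.mapCocone c) i)
  let T := SheafOfModules.toSheaf.{u} (ModSite.ringSh O)
  have : Sheaf.IsLocallySurjective (T.map κ) := ⟨fun {V} b => by
    obtain ⟨R, hR, hR'⟩ := locally_lift_lhom hc (toL (N := c.pt) (V := V) b)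
    refine J.superset_covering (fun U f hf => ?_) hR
    obtain ⟨j, α, hα⟩ := hR' f hf
    obtain ⟨a, rfl⟩ := (bijective_toL F (D.obj j) U).2 α
    refine ⟨app (c'.ι.app j) U a, ?_⟩
    show app κ U (app (c'.ι.app j) U a) = mapS _ f b
    rw [hκ]
    exact (bijective_toL F c.pt U).1 ((toL_natural F (c.ι.app j) a).trans (hα.trans (toL_res F f b).symm))⟩
  have : Sheaf.IsLocallyInjective (T.map κ) := ⟨fun {V} x y hxy => by
    obtain ⟨R, hR, hR'⟩ := locally_rep hc' (x - y : ModSite.sect c'.pt V.unop)
    refine J.transitive hR _ fun W g hg => ?_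
    obtain ⟨i, a, ha⟩ := hR' g hg
    have h0 : (toL a).post (c.ι.app i) = (toL (0 : ModSite.sect (H.obj (D.obj i)) W)).post (c.ι.app i) := by
      refine (toL_natural F (c.ι.app i) a).symm.trans (Eq.trans ?_ (toL_natural F (c.ι.app i) _))
      refine congrArg toL ?_
      refine (hκ i a).symm.trans (Eq.trans ?_ (map_zero (app ((ModSite.sheafHom F).map (c.ι.app i)) W)).symm)
      let x' : ModSite.sect c'.pt V.unop := x
      let y' : ModSite.sect c'.pt V.unop := y
      refine (congrArg (app κ W) ha).trans ((map_app κ g (x' - y')).symm.trans ?_)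
      refine (congrArg (mapS _ g) ?_).trans (map_zero _)
      exact (map_sub (app κ V.unop) x' y').trans (sub_eq_zero.2 hxy)
    obtain ⟨S, hS, hS'⟩ := locally_eq hc (toL a) (toL (0 : ModSite.sect (H.obj (D.obj i)) W)) h0
    refine J.superset_covering (fun U f hf => ?_) hS
    obtain ⟨j, w, hw⟩ := hS' f hf
    have h1 : app ((ModSite.sheafHom F).map (D.map w)) U (mapS _ f a) = 0 := by
      refine (bijective_toL F (D.obj j) U).1 ?_
      refine (toL_natural F (D.map w) _).trans ?_
      rw [toL_res, hw, ← toL_res, ← toL_natural, map_zero, map_zero]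
    have h2 : mapS c'.pt f (app (c'.ι.app i) W a) = 0 := by
      refine (map_app (c'.ι.app i) f a).trans
        ((congrArg (fun q => app q U (mapS _ f a)) (c'.w w).symm).trans ?_)
      exact (congrArg (app (c'.ι.app j) U) h1).trans (map_zero _)
    rw [ha, mapS_comp, map_sub, sub_eq_zero] at h2
    exact h2⟩
  have : IsIso (T.map κ) := by
    have := (Sheaf.isLocallyBijective_iff_isIso (T.map κ)).1 ⟨inferInstance, inferInstance⟩
    exact this
  have : IsIso κ := isIso_of_reflects_iso κ T
  exact preservesColimit_of_preserves_colimit_cocone hc (IsColimit.ofIsoColimit hc'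
    (Cocone.ext (asIso κ) fun j => colimit.ι_desc (H.mapCocone c) j))

end Groth.Agent.DSites.FPHom
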