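import Groth.Agent.DSites.FPHom.Global
import Groth.Agent.QcqsColim.Rpush

/-!
# Quasi-separated refinements on a space
-/

universe u

set_option autoImplicit false
set_option backward.isDefEq.respectTransparency false
set_option backward.isDefEq.respectTransparency.types false
set_option linter.unusedVariables false

open CategoryTheory CategoryTheory.Limits Opposite TopologicalSpace ToposFin Groth.Agent.ToposFinLib

namespace Groth.Agent.DSites.FPHom

variable {X : TopCat.{u}}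

/-- The sheaves of sets with quasi-compact square. -/
def QS2 (X : TopCat.{u}) : Set (Sheaf (Opens.grothendieckTopology X) (Type u)) :=
  {K | CohCx.IsQcObject (K ⨯ K)}

theorem isQcObject_of_isQC {K : Sh (Opens.grothendieckTopology X)} (hK : IsQC K) : CohCx.IsQcObject K := by
  classical
  intro ι L π hπ
  obtain ⟨t, ht⟩ := hK ι L π (epi_desc_iff.2 fun V y => by
    obtain ⟨T, hT, h⟩ := hπ V y
    refine (Opens.grothendieckTopology X).superset_covering (fun W g hg => ?_) hT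
    obtain ⟨i, z, hz⟩ := h W g hg
    exact ⟨i, z, hz⟩)
  exact ⟨t, fun V y => ⟨_, epi_desc_iff.1 ht y, fun W g ⟨i, z, hz⟩ => ⟨i, z, hz⟩⟩⟩

theorem exists_qs2
    (hX : ∀ (ι : Type u) (V : ι → Opens X), iSup V = ⊤ →
      ∃ (J : Type u) (_ : Finite J) (U : J → Opens X), iSup U = ⊤ ∧ (∀ j, ∃ i, U j ≤ V i) ∧
        ∀ j j', IsCompact ((U j ⊓ U j' : Opens X) : Set X))
    (G : Sheaf (Opens.grothendieckTopology X) (Type u)) (hG : Epi (terminal.from G)) :
    ∃ K ∈ QS2 X, Epi (terminal.from K) ∧ Nonempty (K ⟶ G) := by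
  let J := Opens.grothendieckTopology X
  have hcov := (cov_of_epi.{u} (terminal.from G)) (nonempty_terminal (op (⊤ : Opens X))).some
  have hloc : ∀ x : X, ∃ W : Opens X, x ∈ W ∧ Nonempty (G.obj.obj (op W)) := fun x => by
    obtain ⟨W, g, ⟨i, z, -⟩, hxW⟩ := hcov x trivial
    exact ⟨W, hxW, ⟨z⟩⟩
  choose W hxW hz using hloc
  obtain ⟨κ, hκ, U, hU, hUW, hUc⟩ := hX X W (eq_top_iff.2 fun x _ => Opens.mem_iSup.2 ⟨x, hxW x⟩)
  choose a ha using hUW
  let L : κ → Sh J := fun k => eps J (U k)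
  have hι : Cov (fun k => Sigma.ι L k) := (isPartition_sigma_ι L).cov
  refine ⟨∐ L, ?_, ?_, ⟨Sigma.desc fun k => epsDesc (G.obj.map (homOfLE (ha k)).op (hz (a k)).some)⟩⟩
  · refine isQcObject_of_isQC ?_
    have hπ : Cov (fun p : κ × κ => (prod.lift (epsMap (homOfLE inf_le_left) ≫ Sigma.ι L p.1)
        (epsMap (homOfLE inf_le_right) ≫ Sigma.ι L p.2) : eps J (U p.1 ⊓ U p.2) ⟶ (∐ L) ⨯ (∐ L))) := fun V y => by
      refine J.superset_covering ?_ (J.intersection_covering
        (hι ((prod.fst : (∐ L) ⨯ (∐ L) ⟶ _).hom.app (op V) y))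
        (hι ((prod.snd : (∐ L) ⨯ (∐ L) ⟶ _).hom.app (op V) y)))
      rintro V' g ⟨⟨k, z, hz⟩, ⟨k', z', hz'⟩⟩
      have hle : V' ≤ U k ⊓ U k' :=
        le_inf (QcqsColim.le_of_epsHom (epsDesc z)) (QcqsColim.le_of_epsHom (epsDesc z'))
      let m : eps J (U k ⊓ U k') ⟶ (∐ L) ⨯ (∐ L) := prod.lift (epsMap (homOfLE inf_le_left) ≫ Sigma.ι L k)
        (epsMap (homOfLE inf_le_right) ≫ Sigma.ι L k')
      refine ⟨(k, k'), (epsMap (homOfLE hle)).hom.app (op V') (epsGen J V'), ?_⟩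
      have e : epsMap (homOfLE hle) ≫ m = epsDesc (((∐ L) ⨯ (∐ L)).obj.map g.op y) := by
        apply prod.hom_ext
        · simp only [m, Category.assoc, prod.lift_fst]
          rw [← Category.assoc, QcqsColim.epsHom_subsingleton _ (epsMap (homOfLE hle) ≫ epsMap (homOfLE inf_le_left)) (epsDesc z)]
          refine eps_hom_ext ?_
          show (Sigma.ι L k).hom.app _ ((epsDesc z).hom.app _ _) = (prod.fst : (∐ L) ⨯ (∐ L) ⟶ _).hom.app _ ((epsDesc _).hom.app _ _)
          rw [epsDesc_gen, epsDesc_gen, hz]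
          exact (NatTrans.naturality_apply (prod.fst : (∐ L) ⨯ (∐ L) ⟶ _).hom g.op y).symm
        · simp only [m, Category.assoc, prod.lift_snd]
          rw [← Category.assoc, QcqsColim.epsHom_subsingleton _ (epsMap (homOfLE hle) ≫ epsMap (homOfLE inf_le_right)) (epsDesc z')]
          refine eps_hom_ext ?_
          show (Sigma.ι L k').hom.app _ ((epsDesc z').hom.app _ _) = (prod.snd : (∐ L) ⨯ (∐ L) ⟶ _).hom.app _ ((epsDesc _).hom.app _ _)
          rw [epsDesc_gen, epsDesc_gen, hz']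
          exact (NatTrans.naturality_apply (prod.snd : (∐ L) ⨯ (∐ L) ⟶ _).hom g.op y).symm
      exact (congrArg (fun q : eps J V' ⟶ (∐ L) ⨯ (∐ L) => q.hom.app (op V') (epsGen J V')) e).trans (epsDesc_gen _)
    exact isQC_of_finite_cov _ _ hπ fun p => (isQC_eps_iff _).1 (QcqsColim.isQCSite_of_isCompact (hUc p.1 p.2))
  · refine epi_of_cov.{u} (fun V y x hx => ?_)
    obtain ⟨k, hk⟩ := Opens.mem_iSup.1 (show x ∈ iSup U by rw [hU]; trivial)
    exact ⟨V ⊓ U k, homOfLE inf_le_left, ⟨PUnit.unit, (epsMap (homOfLE inf_le_right) ≫ Sigma.ι L k).hom.app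
      (op (V ⊓ U k)) (epsGen J (V ⊓ U k)), (subsingleton_terminal _).elim _ _⟩, hx, hk⟩

end Groth.Agent.DSites.FPHom
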